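import Cfsg.Agent.MFive.JData
import Cfsg.Agent.H961.M5.CWord

/-!
# The element `a` of `Co1` of order five acts without fixed points on `Λ / 2Λ` (helper772; task 2893 of helper777)

The matrix of the word `e₁ e₃ e₅ e₁₀ e₁₁ e₁₁` (computed by a script, checked by the kernel).
-/

set_option autoImplicit false
set_option maxRecDepth 100000

namespace Cfsg.Agent.H772.M5.FrA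

open Cfsg Cfsg.Agent.SporadicA Cfsg.Agent.SporadicA.Co0Mono Cfsg.Agent.SporadicStructure.Co0Matrix
open Cfsg.Agent.CoOneType.CoEval Cfsg.Agent.CoOneType.SignFacts
open Cfsg.Agent.MonsterU.Lam2 Cfsg.Agent.LThreeMB.Fix
open Cfsg.Agent.LThreeMB (fr)
open Cfsg.Spor (Co1)
open Cfsg.Agent.MFive
open Cfsg.Agent.H961.M5.CWord (wd wA)

/-- rows of the matrix of `a` -/
def rX : List (List ℤ) := [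
  [-4, 0, 0, 0, 0, 0, 0, 0, 0, 0, 0, 0, 0, 0, 0, 0, 0, 4, 0, -4, 0, 0, 0, -4],
  [-4, 0, 0, 0, 0, 0, 0, 0, 0, 0, 0, 0, 0, 0, 0, 0, 0, -4, 0, 4, 0, 0, 0, -4],
  [0, 0, 0, -4, 0, 0, 0, -4, 4, 0, 0, 0, -4, 0, 0, 0, 0, 0, 0, 0, 0, 0, 0, 0],
  [0, 0, 0, -4, 0, 0, 0, 4, 4, 0, 0, 0, 4, 0, 0, 0, 0, 0, 0, 0, 0, 0, 0, 0],
  [0, 0, 0, 0, -4, -4, 0, 0, 0, 0, 0, 0, 0, 0, 0, 0, 0, 0, 0, 0, 0, 4, -4, 0],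
  [0, 0, 0, 0, 0, 0, -4, 0, 0, 0, -4, 0, 0, 0, 4, 0, 0, 0, 0, 0, -4, 0, 0, 0],
  [0, 0, 0, 0, -4, 4, 0, 0, 0, 0, 0, 0, 0, 0, 0, 0, 0, 0, 0, 0, 0, -4, -4, 0],
  [0, 0, 4, 0, 0, 0, 0, 0, 0, 4, 0, -4, 0, 0, 0, 0, 4, 0, 0, 0, 0, 0, 0, 0],
  [0, 0, 0, -4, 0, 0, 0, -4, -4, 0, 0, 0, 4, 0, 0, 0, 0, 0, 0, 0, 0, 0, 0, 0],
  [0, 0, 4, 0, 0, 0, 0, 0, 0, -4, 0, -4, 0, 0, 0, 0, -4, 0, 0, 0, 0, 0, 0, 0],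
  [0, 0, 0, 0, -4, 4, 0, 0, 0, 0, 0, 0, 0, 0, 0, 0, 0, 0, 0, 0, 0, 4, 4, 0],
  [0, 0, -4, 0, 0, 0, 0, 0, 0, 4, 0, -4, 0, 0, 0, 0, -4, 0, 0, 0, 0, 0, 0, 0],
  [0, 0, 4, 0, 0, 0, 0, 0, 0, 4, 0, 4, 0, 0, 0, 0, -4, 0, 0, 0, 0, 0, 0, 0],
  [0, -4, 0, 0, 0, 0, 0, 0, 0, 0, 0, 0, 0, -4, 0, 4, 0, 0, -4, 0, 0, 0, 0, 0],
  [0, 0, 0, 0, 0, 0, -4, 0, 0, 0, -4, 0, 0, 0, -4, 0, 0, 0, 0, 0, 4, 0, 0, 0],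
  [-4, 0, 0, 0, 0, 0, 0, 0, 0, 0, 0, 0, 0, 0, 0, 0, 0, -4, 0, -4, 0, 0, 0, 4],
  [0, 0, 0, 4, 0, 0, 0, -4, 4, 0, 0, 0, 4, 0, 0, 0, 0, 0, 0, 0, 0, 0, 0, 0],
  [0, 4, 0, 0, 0, 0, 0, 0, 0, 0, 0, 0, 0, -4, 0, 4, 0, 0, 4, 0, 0, 0, 0, 0],
  [0, 4, 0, 0, 0, 0, 0, 0, 0, 0, 0, 0, 0, 4, 0, 4, 0, 0, -4, 0, 0, 0, 0, 0],
  [4, 0, 0, 0, 0, 0, 0, 0, 0, 0, 0, 0, 0, 0, 0, 0, 0, -4, 0, -4, 0, 0, 0, -4],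
  [0, 0, 0, 0, 0, 0, -4, 0, 0, 0, 4, 0, 0, 0, -4, 0, 0, 0, 0, 0, -4, 0, 0, 0],
  [0, 0, 0, 0, 0, 0, 4, 0, 0, 0, -4, 0, 0, 0, -4, 0, 0, 0, 0, 0, -4, 0, 0, 0],
  [0, 0, 0, 0, 4, 4, 0, 0, 0, 0, 0, 0, 0, 0, 0, 0, 0, 0, 0, 0, 0, 4, -4, 0],
  [0, 4, 0, 0, 0, 0, 0, 0, 0, 0, 0, 0, 0, -4, 0, -4, 0, 0, -4, 0, 0, 0, 0, 0]]

/-- columns of the matrix of `a` -/
def cX : List (List ℤ) := [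
  [-4, -4, 0, 0, 0, 0, 0, 0, 0, 0, 0, 0, 0, 0, 0, -4, 0, 0, 0, 4, 0, 0, 0, 0],
  [0, 0, 0, 0, 0, 0, 0, 0, 0, 0, 0, 0, 0, -4, 0, 0, 0, 4, 4, 0, 0, 0, 0, 4],
  [0, 0, 0, 0, 0, 0, 0, 4, 0, 4, 0, -4, 4, 0, 0, 0, 0, 0, 0, 0, 0, 0, 0, 0],
  [0, 0, -4, -4, 0, 0, 0, 0, -4, 0, 0, 0, 0, 0, 0, 0, 4, 0, 0, 0, 0, 0, 0, 0],
  [0, 0, 0, 0, -4, 0, -4, 0, 0, 0, -4, 0, 0, 0, 0, 0, 0, 0, 0, 0, 0, 0, 4, 0],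
  [0, 0, 0, 0, -4, 0, 4, 0, 0, 0, 4, 0, 0, 0, 0, 0, 0, 0, 0, 0, 0, 0, 4, 0],
  [0, 0, 0, 0, 0, -4, 0, 0, 0, 0, 0, 0, 0, 0, -4, 0, 0, 0, 0, 0, -4, 4, 0, 0],
  [0, 0, -4, 4, 0, 0, 0, 0, -4, 0, 0, 0, 0, 0, 0, 0, -4, 0, 0, 0, 0, 0, 0, 0],
  [0, 0, 4, 4, 0, 0, 0, 0, -4, 0, 0, 0, 0, 0, 0, 0, 4, 0, 0, 0, 0, 0, 0, 0],
  [0, 0, 0, 0, 0, 0, 0, 4, 0, -4, 0, 4, 4, 0, 0, 0, 0, 0, 0, 0, 0, 0, 0, 0],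
  [0, 0, 0, 0, 0, -4, 0, 0, 0, 0, 0, 0, 0, 0, -4, 0, 0, 0, 0, 0, 4, -4, 0, 0],
  [0, 0, 0, 0, 0, 0, 0, -4, 0, -4, 0, -4, 4, 0, 0, 0, 0, 0, 0, 0, 0, 0, 0, 0],
  [0, 0, -4, 4, 0, 0, 0, 0, 4, 0, 0, 0, 0, 0, 0, 0, 4, 0, 0, 0, 0, 0, 0, 0],
  [0, 0, 0, 0, 0, 0, 0, 0, 0, 0, 0, 0, 0, -4, 0, 0, 0, -4, 4, 0, 0, 0, 0, -4],
  [0, 0, 0, 0, 0, 4, 0, 0, 0, 0, 0, 0, 0, 0, -4, 0, 0, 0, 0, 0, -4, -4, 0, 0],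
  [0, 0, 0, 0, 0, 0, 0, 0, 0, 0, 0, 0, 0, 4, 0, 0, 0, 4, 4, 0, 0, 0, 0, -4],
  [0, 0, 0, 0, 0, 0, 0, 4, 0, -4, 0, -4, -4, 0, 0, 0, 0, 0, 0, 0, 0, 0, 0, 0],
  [4, -4, 0, 0, 0, 0, 0, 0, 0, 0, 0, 0, 0, 0, 0, -4, 0, 0, 0, -4, 0, 0, 0, 0],
  [0, 0, 0, 0, 0, 0, 0, 0, 0, 0, 0, 0, 0, -4, 0, 0, 0, 4, -4, 0, 0, 0, 0, -4],
  [-4, 4, 0, 0, 0, 0, 0, 0, 0, 0, 0, 0, 0, 0, 0, -4, 0, 0, 0, -4, 0, 0, 0, 0],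
  [0, 0, 0, 0, 0, -4, 0, 0, 0, 0, 0, 0, 0, 0, 4, 0, 0, 0, 0, 0, -4, -4, 0, 0],
  [0, 0, 0, 0, 4, 0, -4, 0, 0, 0, 4, 0, 0, 0, 0, 0, 0, 0, 0, 0, 0, 0, 4, 0],
  [0, 0, 0, 0, -4, 0, -4, 0, 0, 0, 4, 0, 0, 0, 0, 0, 0, 0, 0, 0, 0, 0, -4, 0],
  [-4, -4, 0, 0, 0, 0, 0, 0, 0, 0, 0, 0, 0, 0, 0, 4, 0, 0, 0, -4, 0, 0, 0, 0]]

theorem okX : Ok rX cX := Ok.of_bool (by decide +kernel)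

/-- the element -/
def eX : Co0 := Cfsg.Agent.SporadicStructure.Co0Matrix.mk okX

theorem repX : Rep eX rX := rep_mk okX

theorem k_prod : eqL (fold JData.M wA betaL) (ap rX betaL) = true := by decide +kernel

theorem eX_eq : (wA.map JData.e).prod = eX := by
  have h1 := (fold_spec JData.rep wA (l := betaL) (v := beta) (by decide) rfl).2
  rw [eqL_eq k_prod] at h1
  refine eq_of_fix (Subtype.ext ?_)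
  rw [h1, repX.apply (v := beta) (l := betaL) (by decide) rfl]

theorem span : FixN.spanB 5 rX [] = true := by decide +kernel

theorem fr_eX : fr (QuotientGroup.mk eX : Co1) = 1 := by
  have h := FixN.card_fix (n := 5) (by decide) repX (vw := []) rfl rfl rfl span
  rwa [List.length_nil, pow_zero] at h

/-- **`a` has no fixed points on `Λ / 2Λ`.** -/
theorem fr_a : fr (QuotientGroup.mk ([1, 3, 5, 10, 11, 11].map JData.e).prod : Co1) = 1 := by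
  have h : ([1, 3, 5, 10, 11, 11].map JData.e).prod = eX := eX_eq
  rw [h, fr_eX]

theorem wd_eq_mk : wd wA = (QuotientGroup.mk (wA.map JData.e).prod : Co1) := map_prod_pr JData.e wA

theorem fr_wd : fr (wd wA) = 1 := by
  rw [wd_eq_mk, eX_eq, fr_eX]

theorem orderOf_wd : orderOf (wd wA) = 5 := by
  have : Fact (Nat.Prime 5) := ⟨Nat.prime_five⟩
  refine orderOf_eq_prime ?_ ?_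
  · have h := Cfsg.Agent.H961.M5.CWord.relK.a5
    exact h
  · intro h
    apply Cfsg.Agent.H961.M5.CWord.relK.ab'
    rw [h]
    exact Commute.one_left _

/-- the order of `a` -/
theorem orderOf_a : orderOf (QuotientGroup.mk ([1, 3, 5, 10, 11, 11].map JData.e).prod : Co1) = 5 := by
  have h := orderOf_wd
  rw [wd_eq_mk] at h
  exact h

end Cfsg.Agent.H772.M5.FrA
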